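import Groth.Agent.AcycGlobal.Final
import Groth.Agent.S3510
import Groth.Agent.FibreAcyc.Field

/-!
# The criterion for a class to come from the base
-/

set_option autoImplicit false
set_option linter.style.haveILetI false
universe u

open CategoryTheory CategoryTheory.Limits AlgebraicGeometry Opposite

namespace Groth.Agent.AcycGlobal

open Groth.Agent.EtLimit Groth.Agent.EtFound Groth.Agent.EtBC Groth.Agent.AcycCover

set_option backward.isDefEq.respectTransparency.types false

variable {X Y P : Scheme.{u}} (g : X ⟶ Y) [PreservesFiniteLimits (EtCoh.pull g)] (F : EtCoh.Ab Y) (n : ℕ)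

/-- a pulled back class dies on geometric fibres -/
theorem diesOn_geomFibre (hn : 1 ≤ n) (φ : EtCoh.H Y F n) (y : Y) (Ω : Type u) [Field Ω] [IsSepClosed Ω]
    [Algebra (Y.residueField y) Ω] :
    DiesOn g F n (EtCore.Hpull g F n φ) (pullback.fst g (EtAcyc.geomPt Y y Ω)) := by
  intro _
  let u := pullback.fst g (EtAcyc.geomPt Y y Ω)
  let b := pullback.snd g (EtAcyc.geomPt Y y Ω)
  let gp := EtAcyc.geomPt Y y Ω
  haveI : PreservesFiniteLimits (EtCoh.pull b) := pull_preservesFiniteLimits _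
  haveI : PreservesFiniteLimits (EtCoh.pull gp) := pull_preservesFiniteLimits _
  haveI : PreservesFiniteLimits (EtCoh.pull (b ≫ gp)) := pull_preservesFiniteLimits _
  refine (diesOn_iff u (b ≫ gp) pullback.condition).2 ((hVia_Hpull u g (b ≫ gp) pullback.condition F n φ).trans ?_)
  refine (hVia_Hpull b gp (b ≫ gp) rfl F n φ).symm.trans ?_
  exact (congrArg (hVia b gp (b ≫ gp) rfl F n)
    ((FibreAcyc.subsingleton_H_point Ω _ n hn).elim (EtCore.Hpull gp F n φ) 0)).trans (map_zero _)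

variable {g F n}

omit [PreservesFiniteLimits (EtCoh.pull g)] in
/-- transport of `DiesOn` along a morphism over the base -/
theorem Hpull_via_eq_zero {U : Scheme.{u}} (σ : P ⟶ X) (g' : P ⟶ Y) (w : σ ≫ g = g') [PreservesFiniteLimits (EtCoh.pull σ)]
    {ξ : EtCoh.H X ((EtCoh.pull g).obj F) n} (k : U ⟶ P) [PreservesFiniteLimits (EtCoh.pull k)]
    (h : DiesOn g F n ξ (k ≫ σ)) :
    EtCore.Hpull k ((EtCoh.pull g').obj F) n (hVia σ g g' w F n ξ) = 0 := by
  haveI : PreservesFiniteLimits (EtCoh.pull (k ≫ σ)) := pull_preservesFiniteLimits _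
  have hc : (k ≫ σ) ≫ g = k ≫ g' := (Category.assoc _ _ _).trans (congrArg (k ≫ ·) w)
  have hi : IsIso (appOf (θPull k g' (k ≫ g') rfl) F) := by delta appOf; infer_instance
  refine @EtLimit.Hpull_eq_zero _ _ k _ (pullObj g' F) _ (appOf (θPull k g' (k ≫ g') rfl) F) hi n _ ?_
  exact (hVia_comp k σ g (k ≫ σ) g' (k ≫ g') rfl w rfl hc F n ξ).trans ((diesOn_iff _ _ hc).1 (@h _))

variable (g F) in
/-- a class dying on all geometric fibres comes from the base -/
theorem mem_range_of_geomFibres [QuasiCompact g] [QuasiSeparated g] (L : Set ℕ) (hL : ∃ ℓ ∈ L, ℓ.Prime) (k : ℕ)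
    (hglob : EtAcyc.IsAcyclicN g L k) (hloc : EtAcyc.IsLocAcyclicN g L k) (hF : EtAcyc.IsLTorsion L F)
    (ξ : EtCoh.H X ((EtCoh.pull g).obj F) (k + 1))
    (hfib : ∀ (y : Y) (Ω : Type u) [Field Ω] [IsSepClosed Ω] [Algebra (Y.residueField y) Ω]
      [Algebra.IsAlgebraic (Y.residueField y) Ω], DiesOn g F (k + 1) ξ (pullback.fst g (EtAcyc.geomPt Y y Ω))) :
    ξ ∈ Set.range (EtCore.Hpull g F (k + 1)) := by
  let g' : pullback (𝟙 Y) g ⟶ Y := pullback.fst (𝟙 Y) g
  let σ : pullback (𝟙 Y) g ⟶ X := pullback.snd (𝟙 Y) g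
  have w : σ ≫ g = g' := pullback.condition.symm.trans (Category.comp_id _)
  haveI : IsIso σ := inferInstanceAs (IsIso (pullback.snd (𝟙 Y) g))
  haveI : PreservesFiniteLimits (EtCoh.pull σ) := pull_preservesFiniteLimits _
  haveI : PreservesFiniteLimits (EtCoh.pull g') := pull_preservesFiniteLimits _
  obtain ⟨hu, hR⟩ := (S3510.result g L k).1 hglob (Scheme.Etale.mk (𝟙 Y)) F hF
  have hcov : ∀ y : Y, ∃ (V : Scheme.{u}) (j : V ⟶ Y) (_ : AlgebraicGeometry.Etale j),
      y ∈ Set.range j.base ∧ DiesOn g F (k + 1) ξ (pullback.snd j g) := fun y => by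
    let A : Type u := Y.presheaf.stalk y
    obtain ⟨RY, _, _, _, _, _⟩ := S0537.result A
    exact exists_etale_dies g F ξ y RY (diesOn_strict g F L hL k hglob hloc hF ξ hfib y RY)
  choose V j hj hy hd using hcov
  obtain ⟨φ, hφ⟩ := mem_range_of_local g' k F hu hR (hVia σ g g' w F (k + 1) ξ) (fun y => j y)
    (fun y => ⟨y, hy y⟩) fun y => by
      intro _
      refine Hpull_via_eq_zero σ g' w (pullback.snd (j y) g') ?_
      exact @DiesOn.comp _ _ g F (k + 1) ξ _ _ _ (hd y)
        (pullback.lift (pullback.fst (j y) g') (pullback.snd (j y) g' ≫ σ)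
          (pullback.condition.trans ((congrArg (pullback.snd (j y) g' ≫ ·) w.symm).trans (Category.assoc _ _ _).symm)))
        _ (pullback.lift_snd _ _ _)
  exact ⟨φ, (hVia_bijective σ g g' w F (k + 1)).1 ((hVia_Hpull σ g g' w F (k + 1) φ).trans hφ)⟩

end Groth.Agent.AcycGlobal
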