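import Groth.Agent.EtFound.EdgeVanish

/-!
# Classes which vanish locally on the base come from the base
-/

set_option autoImplicit false
set_option linter.style.haveILetI false
universe w v u

open CategoryTheory CategoryTheory.Limits CategoryTheory.Abelian

namespace Groth.Agent.AcycGlobal

open Groth.Agent.EtFound Groth.Agent.EtMVLib

set_option backward.isDefEq.respectTransparency.types false

variable {A : Type u} [Category.{v} A] [Abelian A] [HasExt.{w} A] [EnoughInjectives A]
  {B : Type*} [Category* B] [Abelian B] [HasExt.{w} B] [EnoughInjectives B]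
  {L : B ⥤ A} {R : A ⥤ B} (adj : L ⊣ R) [L.Additive] [PreservesFiniteLimits L] [PreservesFiniteColimits L]
  [R.Additive] [PreservesFiniteLimits R]

/-- with higher direct images vanishing below, a class killed by a jointly epimorphic family is in the image
of the edge map -/
theorem mem_range_edge_of_kill (n : ℕ) : ∀ (G : A), (∀ q, 1 ≤ q → q ≤ n → IsZero ((R.rightDerived q).obj G)) →
    ∀ {P : B} {ι : Type*} (P' : ι → B) (π : ∀ j, P' j ⟶ P),
      (∀ {M : B} (h : P ⟶ M), (∀ j, π j ≫ h = 0) → h = 0) →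
      ∀ x : Ext (L.obj P) G (n + 1), (∀ j, (Ext.mk₀ (L.map (π j))).comp x (zero_add (n + 1)) = 0) →
        x ∈ Set.range (edge adj P G (n + 1)) := by
  induction n with
  | zero =>
    intro G _ P ι P' π hπ x hx
    obtain ⟨S, hS, hI, rfl⟩ : ∃ S : ShortComplex A, S.ShortExact ∧ Injective S.X₂ ∧ S.X₁ = G :=
      ⟨injSES G, injSES_shortExact G, inferInstanceAs (Injective (Injective.under G)), rfl⟩
    haveI := hS.mono_f
    obtain ⟨c₀, rfl⟩ := Ext.covariant_sequence_exact₁ _ hS x (Ext.eq_zero_of_injective _) (rfl : 0 + 1 = 1)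
    obtain ⟨c, rfl⟩ := (Ext.mk₀_bijective _ _).2 c₀
    let cT : P ⟶ R.obj S.X₃ := adj.homEquiv _ _ c
    let k := R.map S.g ≫ cokernel.π (R.map S.g)
    have hcT : cT ≫ cokernel.π (R.map S.g) = 0 := hπ _ fun j => by
      have h := hx j
      rw [← Ext.comp_assoc _ _ _ (zero_add 0) (zero_add 1) (by omega), Ext.mk₀_comp_mk₀] at h
      obtain ⟨w, hw⟩ := Ext.covariant_sequence_exact₃ _ hS _ (rfl : 0 + 1 = 1) h
      obtain ⟨a, rfl⟩ := (Ext.mk₀_bijective _ _).2 w
      rw [Ext.mk₀_comp_mk₀] at hw
      have e := congrArg (adj.homEquiv _ _) ((Ext.mk₀_bijective _ _).1 hw)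
      rw [Adjunction.homEquiv_naturality_right, Adjunction.homEquiv_naturality_left] at e
      rw [← Category.assoc, ← e, Category.assoc, cokernel.condition, comp_zero]
    let T : ShortComplex B := ShortComplex.mk (R.map S.f) (cokernel.π (R.map S.f)) (cokernel.condition _)
    have hT : T.ShortExact :=
      { exact := ShortComplex.exact_of_g_is_cokernel _ (cokernelIsCokernel _)
        mono_f := inferInstanceAs (Mono (R.map S.f)) }
    haveI : Mono (S.map R).f := inferInstanceAs (Mono (R.map S.f))
    have hmid := hS.exact.map_of_mono_of_preservesKernel R inferInstance inferInstance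
    let d : T.X₃ ⟶ R.obj S.X₃ := cokernel.desc _ (R.map S.g) (by rw [← R.map_comp, S.zero, R.map_zero])
    haveI : Mono d := hmid.mono_cokernelDesc
    haveI hq : Epi (cokernel.π (R.map S.f)) := inferInstance
    have hd : d ≫ cokernel.π (R.map S.g) = 0 := by
      rw [← cancel_epi (cokernel.π (R.map S.f)), cokernel.π_desc_assoc, cokernel.condition, comp_zero]
    have hdex : (ShortComplex.mk d (cokernel.π (R.map S.g)) hd).Exact := by
      refine ShortComplex.exact_of_g_is_cokernel _ (CokernelCofork.IsColimit.ofπ _ hd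
        (fun {W} t ht => cokernel.desc _ t (by
          rw [← cokernel.π_desc (R.map S.f) (R.map S.g) (by rw [← R.map_comp, S.zero, R.map_zero]), Category.assoc,
            ht, comp_zero]))
        (fun {W} t ht => cokernel.π_desc _ _ _)
        (fun {W} t ht m hm => coequalizer.hom_ext (hm.trans (cokernel.π_desc _ _ _).symm)))
    obtain ⟨c', hc'⟩ : ∃ c' : P ⟶ T.X₃, c' ≫ d = cT :=
      ⟨_, (KernelFork.IsLimit.lift' hdex.fIsKernel cT hcT).2⟩
    let φ : T.map L ⟶ S :=
      { τ₁ := adj.counit.app S.X₁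
        τ₂ := adj.counit.app S.X₂
        τ₃ := (adj.homEquiv _ _).symm d
        comm₁₂ := (adj.counit.naturality S.f).symm
        comm₂₃ := by
          change adj.counit.app S.X₂ ≫ S.g = L.map (cokernel.π (R.map S.f)) ≫ (adj.homEquiv _ _).symm d
          rw [← adj.homEquiv_naturality_left_symm, cokernel.π_desc, Adjunction.homEquiv_counit]
          exact (adj.counit.naturality S.g).symm }
    refine ⟨(Ext.mk₀ c').comp hT.extClass (zero_add 1), ?_⟩
    refine (mapExt_extClass_natural hT hS φ (Ext.mk₀ c')).trans ?_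
    rw [Ext.mapExactFunctor_mk₀, Ext.mk₀_comp_mk₀]
    refine congrArg (fun t => (Ext.mk₀ t).comp hS.extClass (zero_add 1)) ?_
    show L.map c' ≫ (adj.homEquiv _ _).symm d = c
    rw [← adj.homEquiv_naturality_left_symm, hc', Equiv.symm_apply_apply]
  | succ n ih =>
    intro G h P ι P' π hπ x hx
    obtain ⟨S, hS, hI, rfl⟩ : ∃ S : ShortComplex A, S.ShortExact ∧ Injective S.X₂ ∧ S.X₁ = G :=
      ⟨injSES G, injSES_shortExact G, inferInstanceAs (Injective (Injective.under G)), rfl⟩
    have hRS := map_shortExact_of_isZero R hS (h 1 le_rfl (by omega))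
    obtain ⟨c, rfl⟩ := Ext.covariant_sequence_exact₁ _ hS x (Ext.eq_zero_of_injective _) (rfl : n + 1 + 1 = n + 1 + 1)
    have hc : ∀ j, (Ext.mk₀ (L.map (π j))).comp c (zero_add (n + 1)) = 0 := fun j => by
      have h' := hx j
      rw [← Ext.comp_assoc _ _ _ (zero_add (n + 1)) rfl (by omega)] at h'
      obtain ⟨w, hw⟩ := Ext.covariant_sequence_exact₃ _ hS _ (rfl : n + 1 + 1 = n + 1 + 1) h'
      rw [← hw, Ext.eq_zero_of_injective w, Ext.zero_comp]
    obtain ⟨z, rfl⟩ := ih S.X₃ (fun q hq hqn => by
      obtain ⟨q, rfl⟩ := Nat.exists_eq_add_of_le hq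
      rw [Nat.add_comm]
      exact isZero_rightDerived_right R hS q (h (q + 2) (by omega) (by omega))) P' π hπ c hc
    exact ⟨z.comp hRS.extClass rfl, edge_extClass adj hS hRS z⟩

end Groth.Agent.AcycGlobal
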