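import Groth.Agent.AcycGlobal.Main
import Groth.Agent.AcycCover.Local
import Groth.Agent.S8534
import Groth.Agent.IndEtLib.Sys

/-!
# Vanishing on the geometric fibres gives local vanishing on the base
-/

set_option autoImplicit false
set_option linter.style.haveILetI false
universe u

open CategoryTheory CategoryTheory.Limits AlgebraicGeometry Opposite IsLocalRing

namespace Groth.Agent.AcycGlobal

open Groth.Agent.EtLimit Groth.Agent.EtFound Groth.Agent.EtBC Groth.Agent.AcycCover

set_option backward.isDefEq.respectTransparency.types false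

variable {X Y T P : Scheme.{u}} (g : X ⟶ Y) (F : EtCoh.Ab Y) (n : ℕ)

/-- a class on `X` dies on `U` -/
def DiesOn (ξ : EtCoh.H X ((EtCoh.pull g).obj F) n) {U : Scheme.{u}} (u : U ⟶ X) : Prop :=
  ∀ [PreservesFiniteLimits (EtCoh.pull u)], EtCore.Hpull u ((EtCoh.pull g).obj F) n ξ = 0

variable {g F n} {ξ : EtCoh.H X ((EtCoh.pull g).obj F) n}

theorem diesOn_iff {U : Scheme.{u}} (u : U ⟶ X) (c : U ⟶ Y) (hc : u ≫ g = c) [PreservesFiniteLimits (EtCoh.pull u)] :
    EtCore.Hpull u ((EtCoh.pull g).obj F) n ξ = 0 ↔ hVia u g c hc F n ξ = 0 := by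
  have hi : IsIso (appOf (θPull u g c hc) F) := by delta appOf; infer_instance
  refine ⟨fun h => (congrArg (hmap (appOf (θPull u g c hc) F) n) h).trans (map_zero _), fun h => ?_⟩
  exact @EtLimit.Hpull_eq_zero _ _ u _ (pullObj g F) _ (appOf (θPull u g c hc) F) hi n ξ h

theorem DiesOn.comp {U V : Scheme.{u}} {u : U ⟶ X} (h : DiesOn g F n ξ u) (k : V ⟶ U) (v : V ⟶ X) (hv : k ≫ u = v) :
    DiesOn g F n ξ v := by
  intro _
  haveI : PreservesFiniteLimits (EtCoh.pull u) := pull_preservesFiniteLimits _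
  haveI : PreservesFiniteLimits (EtCoh.pull k) := pull_preservesFiniteLimits _
  have he : k ≫ u ≫ g = v ≫ g := by rw [← Category.assoc, hv]
  refine (diesOn_iff v (v ≫ g) rfl).2 ?_
  refine (hVia_comp k u g v (u ≫ g) (v ≫ g) hv rfl he rfl F n ξ).symm.trans ?_
  rw [(diesOn_iff u (u ≫ g) rfl).1 (@h _), map_zero]

theorem Hpull_factor (a : P ⟶ X) (b : P ⟶ T) (π : T ⟶ Y) (w : a ≫ g = b ≫ π)
    (ξ : EtCoh.H X ((EtCoh.pull g).obj F) n) :
    ∃ ξ' : EtCoh.H P (pullObj b ((EtCoh.pull π).obj F)) n,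
      (∀ {W : Scheme.{u}} (k : W ⟶ P) [PreservesFiniteLimits (EtCoh.pull k)],
        EtCore.Hpull k (pullObj b ((EtCoh.pull π).obj F)) n ξ' = 0 ↔ DiesOn g F n ξ (k ≫ a)) ∧
      (ξ' = 0 → DiesOn g F n ξ a) := by
  haveI : PreservesFiniteLimits (EtCoh.pull a) := pull_preservesFiniteLimits _
  let θ : pullObj b ((EtCoh.pull π).obj F) ⟶ pullObj (b ≫ π) F := appOf (θPull b π (b ≫ π) rfl) F
  haveI : IsIso θ := by show IsIso (appOf (θPull b π (b ≫ π) rfl) F); delta appOf; infer_instance
  refine ⟨hmap (inv θ) n (hVia a g (b ≫ π) w F n ξ), fun {W} k _ => ?_, fun h => ?_⟩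
  · haveI : PreservesFiniteLimits (EtCoh.pull (k ≫ a)) := pull_preservesFiniteLimits _
    have hc : (k ≫ a) ≫ g = k ≫ b ≫ π := (Category.assoc _ _ _).trans (congrArg (k ≫ ·) w)
    have hi : IsIso (appOf (θPull k (b ≫ π) (k ≫ b ≫ π) rfl) F) := by delta appOf; infer_instance
    let η := EtCore.Hpull k (pullObj (b ≫ π) F) n (hVia a g (b ≫ π) w F n ξ)
    have h1 : hmap (appOf (θPull k (b ≫ π) (k ≫ b ≫ π) rfl) F) n η = hVia (k ≫ a) g (k ≫ b ≫ π) hc F n ξ :=
      hVia_comp k a g (k ≫ a) (b ≫ π) (k ≫ b ≫ π) rfl w rfl hc F n ξ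
    have h2 : η = 0 ↔ DiesOn g F n ξ (k ≫ a) := by
      constructor
      · intro h _
        refine (diesOn_iff _ _ hc).2 (h1.symm.trans ?_)
        exact (congrArg (hmap (appOf (θPull k (b ≫ π) (k ≫ b ≫ π) rfl) F) n) h).trans (map_zero _)
      · intro h
        refine @EtLimit.Hpull_eq_zero _ _ k _ (pullObj (b ≫ π) F) _ (appOf (θPull k (b ≫ π) (k ≫ b ≫ π) rfl) F) hi n _ ?_
        exact h1.trans ((diesOn_iff _ _ hc).1 (@h _))
    rw [EtBC.Hpull_hmap, ← h2]
    haveI : IsIso ((EtCoh.pull k).map (inv θ)) := inferInstance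
    exact ⟨fun h => (EtBC.hmap_bijective_of_isIso ((EtCoh.pull k).map (inv θ)) n).1 (h.trans (map_zero _).symm),
      fun h => by rw [show EtCore.Hpull k (pullObj (b ≫ π) F) n (hVia a g (b ≫ π) w F n ξ) = 0 from h, map_zero]⟩
  · intro _
    refine (diesOn_iff a (b ≫ π) w).2 ((EtBC.hmap_bijective_of_isIso (inv θ) n).1 ?_)
    exact h.trans (map_zero _).symm

variable (g F)

set_option maxHeartbeats 1000000 in
/-- vanishing over a strict localization -/
theorem diesOn_strict (L : Set ℕ) (hL : ∃ ℓ ∈ L, ℓ.Prime) [QuasiCompact g] [QuasiSeparated g] (k : ℕ)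
    (hglob : EtAcyc.IsAcyclicN g L k) (hloc : EtAcyc.IsLocAcyclicN g L k) (hF : EtAcyc.IsLTorsion L F)
    (ξ : EtCoh.H X ((EtCoh.pull g).obj F) (k + 1))
    (hfib : ∀ (y : Y) (Ω : Type u) [Field Ω] [IsSepClosed Ω] [Algebra (Y.residueField y) Ω]
      [Algebra.IsAlgebraic (Y.residueField y) Ω], DiesOn g F (k + 1) ξ (pullback.fst g (EtAcyc.geomPt Y y Ω)))
    (y : Y) (RY : Type u) [CommRing RY] [IsLocalRing RY] [Algebra (Y.presheaf.stalk y) RY]
    [IsLocalHom (algebraMap (Y.presheaf.stalk y) RY)] [hRY : Hensel.IsStrictHenselization (Y.presheaf.stalk y) RY] :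
    DiesOn g F (k + 1) ξ (pullback.fst g (Hens2.specOf Y y RY)) := by
  haveI := hRY.henselian
  haveI := hRY.isSepClosure.sep_closed
  let π := Hens2.specOf Y y RY
  let a := pullback.fst g π
  let b := pullback.snd g π
  have sq : IsPullback a b g π := IsPullback.of_hasPullback g π
  have hchart : IndEtStrict.IsChart π := by
    have := IndEtStrict.isChart_specOf_comp (𝟙 Y) y RY
    rwa [Category.comp_id] at this
  have hρ := hchart.transfers
  have ha := hchart.transfers_pullback sq
  haveI : QuasiCompact b := MorphismProperty.pullback_snd _ _ inferInstance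
  haveI : QuasiSeparated b := MorphismProperty.pullback_snd _ _ inferInstance
  haveI : PreservesFiniteLimits (EtCoh.pull b) := pull_preservesFiniteLimits _
  have hsurj : EtAcyc.OnStrictLocalizations g fun _ _ h => Surjective h := by
    intro x RY' RX' _ _ _ _ _ _ _ _ _ _ _ _ hc
    exact surjective_of_geomFibres (S8534.result _ L hL k (hloc x RY' RX' hc))
  have hC : EtAcyc.CompN b L k := compN_strict b L k
    (fun t S _ _ _ _ _ => fibres_baseChange g hρ sq (S8534.result g L hL k hglob) t S)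
    (onStrictLocalizations_square hρ ha sq.w hsurj)
    (fun m hm => isLocAcyclicN_mono hm.le (onStrictLocalizations_square hρ ha sq.w hloc))
  obtain ⟨ξ', hk, h0⟩ := Hpull_factor a b π sq.w ξ
  have hloc' : EtAcyc.IsLocAcyclicN b L k := onStrictLocalizations_square hρ ha sq.w hloc
  obtain ⟨φ, hφ⟩ := mem_range_of_fibres b L k hC hloc' ((EtCoh.pull π).obj F) (isLTorsion_pull π L hF) ξ'
    (fun t S _ _ _ _ hS => by
      intro _ _
      let z := resPoint (Spec (CommRingCat.of RY)) t S
      obtain ⟨i1, i2, i3, he⟩ := hρ t S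
      obtain ⟨i4, i5, hg⟩ := exists_geomPt (π t) S
      haveI : IsSepClosed (ResidueField S) := hS.isSepClosure.sep_closed
      have hz : z ≫ π = EtAcyc.geomPt Y (π t) (ResidueField S) := by
        rw [hg]
        exact (Category.assoc _ _ _).trans (congrArg (resPt S (RingHom.id _) ≫ ·) he)
      let G := pullback.fst z b
      let K : pullback z b ⟶ pullback g (EtAcyc.geomPt Y (π t) (ResidueField S)) :=
        pullback.lift (pullback.snd z b ≫ a) G (by
          rw [Category.assoc, sq.w, ← Category.assoc, ← pullback.condition, Category.assoc, hz])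
      have hd : DiesOn g F (k + 1) ξ (pullback.snd z b ≫ a) := @DiesOn.comp _ _ g F (k + 1) ξ _ _ _
        (hfib (π t) (ResidueField S)) K _ (pullback.lift_fst _ _ _)
      refine ⟨0, ?_⟩
      rw [map_zero]
      refine (congrArg (hmap (appOf (θPull (pullback.snd z b) b (pullback.fst z b ≫ z) pullback.condition.symm)
        ((EtCoh.pull π).obj F)) (k + 1)) ((hk (pullback.snd z b)).2 hd)).trans ?_
      exact map_zero _)
  intro hia
  refine h0 ?_
  rw [← hφ, show φ = 0 from (S0073.result RY _ (k + 1) (by omega)).elim φ 0, map_zero]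
  rfl

variable [QuasiCompact g] [QuasiSeparated g]

set_option maxHeartbeats 1000000 in
/-- vanishing on a strict localization spreads to an étale neighbourhood -/
theorem exists_etale_dies (ξ : EtCoh.H X ((EtCoh.pull g).obj F) n) (y : Y) (RY : Type u) [CommRing RY] [IsLocalRing RY]
    [Algebra (Y.presheaf.stalk y) RY] [IsLocalHom (algebraMap (Y.presheaf.stalk y) RY)]
    [Hensel.IsStrictHenselization (Y.presheaf.stalk y) RY]
    (h : DiesOn g F n ξ (pullback.fst g (Hens2.specOf Y y RY))) :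
    ∃ (V : Scheme.{u}) (j : V ⟶ Y) (_ : AlgebraicGeometry.Etale j),
      y ∈ Set.range j.base ∧ DiesOn g F n ξ (pullback.snd j g) := by
  obtain ⟨_, ⟨U, hU, rfl⟩, hy, -⟩ :=
    Y.isBasis_affineOpens.exists_subset_of_mem_open (Set.mem_univ y) isOpen_univ
  replace hU : IsAffineOpen U := hU
  haveI : IsOpenImmersion hU.fromSpec := hU.isOpenImmersion_fromSpec
  let A : Type u := Γ(Y, U)
  letI aS : Algebra A (Y.presheaf.stalk y) := (Y.presheaf.germ U y hy).hom.toAlgebra
  haveI : IsLocalization.AtPrime (Y.presheaf.stalk y) (hU.primeIdealOf ⟨y, hy⟩).asIdeal :=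
    hU.isLocalization_stalk ⟨y, hy⟩
  letI aR : Algebra A RY := ((algebraMap (Y.presheaf.stalk y) RY).comp (algebraMap A _)).toAlgebra
  haveI : IsScalarTower A (Y.presheaf.stalk y) RY := IsScalarTower.of_algebraMap_eq fun _ => rfl
  have hA : EtPBC.IsIndEtale A RY := S0734.result A (Y.presheaf.stalk y) RY
    (IndZarLib.isIndEtale_of_isIndZariski
      (IndEtLib.isIndZariski_localization (hU.primeIdealOf ⟨y, hy⟩).asIdeal.primeCompl (Y.presheaf.stalk y)))
    (S12237.result (Y.presheaf.stalk y) RY)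
  let iU : Spec (CommRingCat.of A) ⟶ Y := hU.fromSpec
  let zΩ := pointHom (R := A) RY
  have hπ : zΩ ≫ iU = Hens2.specOf Y y RY := by
    rw [Hens2.specOf, ← hU.fromSpecStalk_eq_fromSpecStalk hy, IsAffineOpen.fromSpecStalk, ← Category.assoc,
      ← Spec.map_comp]
    rfl
  let b := pullback.fst iU g
  let a := pullback.snd iU g
  haveI : QuasiCompact b := MorphismProperty.pullback_fst _ _ inferInstance
  haveI : QuasiSeparated b := MorphismProperty.pullback_fst _ _ inferInstance
  obtain ⟨ξ', hk, -⟩ := Hpull_factor a b iU pullback.condition.symm ξ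
  haveI := pull_preservesFiniteLimits (pullback.snd zΩ b)
  haveI := pull_preservesFiniteLimits (pullback.fst zΩ b)
  have hd : DiesOn g F n ξ (pullback.snd zΩ b ≫ a) := by
    let K : pullback zΩ b ⟶ pullback g (Hens2.specOf Y y RY) :=
      pullback.lift (pullback.snd zΩ b ≫ a) (pullback.fst zΩ b) (by
        rw [Category.assoc, ← pullback.condition, ← Category.assoc, ← pullback.condition, Category.assoc, hπ])
    exact @DiesOn.comp _ _ g F n ξ _ _ _ h K _ (pullback.lift_fst _ _ _)
  obtain ⟨M, c, hc0, hc⟩ := exists_stage b ((EtCoh.pull iU).obj F) n ξ'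
    (0 : EtCoh.H (Spec (CommRingCat.of RY)) (pullObj zΩ ((EtCoh.pull iU).obj F)) n) (by
      rw [map_zero]
      refine (congrArg (hmap (appOf (θPull (pullback.snd zΩ b) b (pullback.fst zΩ b ≫ zΩ) pullback.condition.symm)
        ((EtCoh.pull iU).obj F)) n) ((hk (pullback.snd zΩ b)).2 hd)).trans ?_
      exact map_zero _)
  obtain ⟨Sy, hD, ⟨e⟩⟩ := IndEtLib.exists_sys hA
  obtain ⟨i, ψ, hψ⟩ := Sy.exists_lift M.Alg (e.symm.toAlgHom.comp M.toB)
  haveI := hD i
  let q : Spec (CommRingCat.of (Sy.A i)) ⟶ Spec (CommRingCat.of A) := Spec.map (CommRingCat.ofHom (algebraMap A (Sy.A i)))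
  haveI : AlgebraicGeometry.Etale q :=
    (HasRingHomProperty.Spec_iff (P := @AlgebraicGeometry.Etale)).2 (RingHom.etale_algebraMap.2 (hD i))
  refine ⟨_, q ≫ iU, inferInstance, ?_, ?_⟩
  · let l : Spec (CommRingCat.of RY) ⟶ Spec (CommRingCat.of (Sy.A i)) :=
      Spec.map (CommRingCat.ofHom (e.toAlgHom.comp (Sy.ι i)).toRingHom)
    have hl : l ≫ q ≫ iU = Hens2.specOf Y y RY := by
      rw [← hπ, ← Category.assoc]
      refine congrArg (· ≫ iU) ?_
      show Spec.map _ ≫ Spec.map _ = Spec.map _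
      rw [← Spec.map_comp]
      exact congrArg Spec.map (CommRingCat.hom_ext (RingHom.ext fun r => (e.toAlgHom.comp (Sy.ι i)).commutes r))
    refine ⟨l.base (closedPoint RY), ?_⟩
    refine (Scheme.Hom.comp_apply _ _ _).symm.trans ?_
    refine (congrArg (fun t : Spec (CommRingCat.of RY) ⟶ Y => t.base (closedPoint RY)) hl).trans ?_
    exact UnitStalk.specMap_closed y (algebraMap _ RY)
  · let zM := modelHom M
    haveI := pull_preservesFiniteLimits (pullback.snd zM b)
    haveI := pull_preservesFiniteLimits (pullback.fst zM b)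
    have hzero : EtCore.Hpull (pullback.snd zM b) (pullObj b ((EtCoh.pull iU).obj F)) n ξ' = 0 := by
      have hi : IsIso (appOf (θPull (pullback.snd zM b) b (pullback.fst zM b ≫ zM) pullback.condition.symm)
        ((EtCoh.pull iU).obj F)) := by delta appOf; infer_instance
      refine @EtLimit.Hpull_eq_zero _ _ (pullback.snd zM b) _ _ _ _ hi n ξ' ?_
      exact (@hc _ _).trans ((congrArg _ (hc0 rfl)).trans (map_zero _))
    have hM : DiesOn g F n ξ (pullback.snd zM b ≫ a) := (hk (pullback.snd zM b)).1 hzero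
    let ql : Spec (CommRingCat.of (Sy.A i)) ⟶ Spec (CommRingCat.of M.Alg) := Spec.map (CommRingCat.ofHom ψ.toRingHom)
    have hql : ql ≫ zM = q := by
      show Spec.map _ ≫ Spec.map _ = Spec.map _
      rw [← Spec.map_comp]
      exact congrArg Spec.map (CommRingCat.hom_ext (RingHom.ext fun r => ψ.commutes r))
    let f1 := pullback.fst (q ≫ iU) g
    let s1 := pullback.snd (q ≫ iU) g
    let K₁ : pullback (q ≫ iU) g ⟶ pullback iU g :=
      pullback.lift (f1 ≫ q) s1 ((Category.assoc _ _ _).trans pullback.condition)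
    let K₂ : pullback (q ≫ iU) g ⟶ pullback zM b :=
      pullback.lift (f1 ≫ ql) K₁ (by rw [Category.assoc, hql]; exact (pullback.lift_fst _ _ _).symm)
    refine @DiesOn.comp _ _ g F n ξ _ _ _ hM K₂ s1 ?_
    rw [← Category.assoc, pullback.lift_snd, pullback.lift_snd]

end Groth.Agent.AcycGlobal
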