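import Groth.Agent.AcycGlobal.Edge
import Groth.Agent.AcycCover.Detect
import Groth.Agent.EtFound.ExtZeroBC
import Groth.Agent.EtFound.ExtZeroExact
import Groth.Agent.EtFound.LocCoh
import Groth.Agent.EtLC12.HenselClosedPoint

/-!
# Classes vanishing étale locally on the base
-/

set_option autoImplicit false
set_option linter.style.haveILetI false
universe u

open CategoryTheory CategoryTheory.Limits AlgebraicGeometry Opposite CategoryTheory.Abelian

namespace Groth.Agent.AcycGlobal

open Groth.Agent.EtLimit Groth.Agent.EtFound Groth.Agent.EtBC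

set_option backward.isDefEq.respectTransparency.types false

/-- a natural transformation to the identity kills a class killed by its source -/
theorem comp_eq_zero_of_mapExact {C : Type*} [Category* C] [Abelian C] [HasExt.{u + 1} C] [EnoughInjectives C]
    (F : C ⥤ C) [F.Additive] [PreservesFiniteLimits F] [PreservesFiniteColimits F] (e : F ⟶ 𝟭 C)
    {A B : C} {n : ℕ} (α : Ext A B n) (h : α.mapExactFunctor F = 0) :
    (Ext.mk₀ (e.app A)).comp α (zero_add n) = 0 := by
  have h' := EtMVLib.mapExactFunctor_natTrans F (𝟭 C) e α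
  rw [EtLC12.HenselClosedPoint.mapExactFunctor_id, h, Ext.zero_comp] at h'
  exact h'.symm

/-- `j_! ⊣ j^*` for étale `j` -/
noncomputable def shAdj {U Z : Scheme.{u}} (j : U ⟶ Z) [AlgebraicGeometry.Etale j] :
    haveI := jCont j
    EtShriek.extZero j ⊣ EtCoh.pull j :=
  haveI := jCont j
  (EtShriek.extZeroAdj j).ofNatIsoRight (restrPullIso j)

variable {X Y : Scheme.{u}} (g : X ⟶ Y) [PreservesFiniteLimits (EtCoh.pull g)]

set_option maxHeartbeats 1000000 in
/-- the transposed class is killed by `j_! j^* ℤ` when the class vanishes on the preimage -/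
theorem comp_counit_eq_zero {V : Scheme.{u}} (j : V ⟶ Y) [AlgebraicGeometry.Etale j]
    [PreservesFiniteLimits (EtCoh.pull (pullback.snd j g))] {G : EtCoh.Ab X} {n : ℕ}
    (x : Ext ((EtCoh.pull g).obj (EtCoh.const Y ℤ)) G n)
    [PreservesFiniteColimits (EtCoh.pull (pullback.snd j g))] [(EtCoh.pull (pullback.snd j g)).Additive]
    (hx : x.mapExactFunctor (EtCoh.pull (pullback.snd j g)) = 0) :
    (Ext.mk₀ ((EtCoh.pull g).map ((shAdj j).counit.app (EtCoh.const Y ℤ)))).comp x (zero_add n) = 0 := by
  haveI : AlgebraicGeometry.Etale (pullback.snd j g) := MorphismProperty.pullback_snd _ _ inferInstance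
  haveI := jCont j
  let j' := pullback.snd j g
  haveI := jCont j'
  haveI : EtCoh.BCCont g := EtCoh.bcCont g
  haveI : EtCoh.BCCont (pullback.fst j g) := EtCoh.bcCont _
  haveI := extZero_preservesFiniteLimits j'
  haveI : PreservesColimitsOfSize.{0, 0} (EtShriek.extZero j') := (shAdj j').leftAdjoint_preservesColimits
  haveI : PreservesFiniteColimits (EtShriek.extZero j') := PreservesColimitsOfSize.preservesFiniteColimits _
  haveI : (EtShriek.extZero j').Additive := Functor.additive_of_preserves_binary_products _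
  haveI : PreservesColimitsOfSize.{0, 0} (EtCoh.pull j') := (EtCoh.pullPushAdj j').leftAdjoint_preservesColimits
  haveI : PreservesFiniteColimits (EtCoh.pull j') := PreservesColimitsOfSize.preservesFiniteColimits _
  haveI : (EtCoh.pull j').Additive := Functor.additive_of_preserves_binary_products _
  haveI : PreservesFiniteLimits (EtCoh.pull j' ⋙ EtShriek.extZero j') := comp_preservesFiniteLimits _ _
  haveI : PreservesFiniteColimits (EtCoh.pull j' ⋙ EtShriek.extZero j') := comp_preservesFiniteColimits _ _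
  haveI : (EtCoh.pull j' ⋙ EtShriek.extZero j').Additive := inferInstance
  have hk : (Ext.mk₀ ((shAdj j').counit.app ((EtCoh.pull g).obj (EtCoh.const Y ℤ)))).comp x (zero_add n) = 0 := by
    refine comp_eq_zero_of_mapExact (EtCoh.pull j' ⋙ EtShriek.extZero j') (shAdj j').counit x ?_
    rw [EtMVLib.mapExactFunctor_functorComp]
    exact (congrArg (fun t => t.mapExactFunctor (EtShriek.extZero j')) hx).trans (Ext.mapExactFunctor_zero _ _ _ _)
  obtain ⟨e⟩ := nonempty_pull_extZero_iso j g j' (pullback.fst j g) (IsPullback.of_hasPullback j g).flip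
  let M := (EtCoh.pull j).obj (EtCoh.const Y ℤ)
  let t : (EtShriek.extZero j').obj ((EtCoh.pull (pullback.fst j g)).obj M) ⟶ (EtCoh.pull g).obj (EtCoh.const Y ℤ) :=
    e.hom.app M ≫ (EtCoh.pull g).map ((shAdj j).counit.app (EtCoh.const Y ℤ))
  have ht : (Ext.mk₀ t).comp x (zero_add n) = 0 := by
    rw [← ((shAdj j').homEquiv _ _).symm_apply_apply t, Adjunction.homEquiv_counit,
      ← Ext.mk₀_comp_mk₀_assoc, hk, Ext.comp_zero]
  have h2 := congrArg (fun y => (Ext.mk₀ (e.inv.app M)).comp y (zero_add n)) ht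
  simp only [t, Ext.mk₀_comp_mk₀_assoc, Iso.inv_hom_id_app_assoc, Ext.comp_zero] at h2
  exact h2

/-- a class vanishing on the preimages of an étale covering comes from the base -/
theorem mem_range_of_local (n : ℕ) (F : EtCoh.Ab Y) (hunit : IsIso ((EtCoh.pullPushAdj g).unit.app F))
    (hR : ∀ q : ℕ, 1 ≤ q → q ≤ n → IsZero ((EtCoh.Rpush g q).obj ((EtCoh.pull g).obj F)))
    (ξ : EtCoh.H X ((EtCoh.pull g).obj F) (n + 1)) {ι : Type*} {V : ι → Scheme.{u}} (j : ∀ i, V i ⟶ Y)
    [∀ i, AlgebraicGeometry.Etale (j i)] (hcov : ∀ y : Y, ∃ i, y ∈ Set.range (j i).base)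
    (hξ : ∀ i, ∀ [PreservesFiniteLimits (EtCoh.pull (pullback.snd (j i) g))],
      EtCore.Hpull (pullback.snd (j i) g) ((EtCoh.pull g).obj F) (n + 1) ξ = 0) :
    ξ ∈ Set.range (EtCore.Hpull g F (n + 1)) := by
  haveI : PreservesColimitsOfSize.{0, 0} (EtCoh.pull g) := (EtCoh.pullPushAdj g).leftAdjoint_preservesColimits
  haveI : PreservesFiniteColimits (EtCoh.pull g) := PreservesColimitsOfSize.preservesFiniteColimits _
  haveI : (EtCoh.pull g).Additive := Functor.additive_of_preserves_binary_products _
  haveI : PreservesLimitsOfSize.{0, 0} (EtCoh.push g) := (EtCoh.pullPushAdj g).rightAdjoint_preservesLimits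
  haveI : PreservesFiniteLimits (EtCoh.push g) := PreservesLimitsOfSize.preservesFiniteLimits _
  haveI : (EtCoh.push g).Additive := Functor.additive_of_preserves_binary_products _
  let e := EtCore.pullConst g ℤ
  let x : Ext ((EtCoh.pull g).obj (EtCoh.const Y ℤ)) ((EtCoh.pull g).obj F) (n + 1) :=
    (Ext.mk₀ e.hom).comp ξ (zero_add (n + 1))
  haveI hP : ∀ i, PreservesFiniteLimits (EtCoh.pull (pullback.snd (j i) g)) := fun i => pull_preservesFiniteLimits _
  obtain ⟨z, hz⟩ := mem_range_edge_of_kill (EtCoh.pullPushAdj g) n ((EtCoh.pull g).obj F) hR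
    (P := EtCoh.const Y ℤ) (fun i => haveI := jCont (j i); (EtShriek.extZero (j i)).obj ((EtCoh.pull (j i)).obj (EtCoh.const Y ℤ)))
    (fun i => (shAdj (j i)).counit.app (EtCoh.const Y ℤ))
    (fun {M} h hh => AcycCover.eq_zero_of_pull j hcov h fun i => by
      have h1 := congrArg ((shAdj (j i)).homEquiv _ _) (hh i)
      rw [Adjunction.homEquiv_unit, Adjunction.homEquiv_unit, Functor.map_comp,
        Adjunction.right_triangle_components_assoc] at h1
      refine h1.trans ?_
      haveI : (EtCoh.pull (j i)).Additive :=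
        haveI := (EtCoh.pullPushAdj (j i)).leftAdjoint_preservesColimits
        Functor.additive_of_preserves_binary_products _
      rw [Functor.map_zero, comp_zero])
    x fun i => comp_counit_eq_zero g (j i) x (by
      haveI : PreservesColimitsOfSize.{0, 0} (EtCoh.pull (pullback.snd (j i) g)) :=
        (EtCoh.pullPushAdj _).leftAdjoint_preservesColimits
      haveI : PreservesFiniteColimits (EtCoh.pull (pullback.snd (j i) g)) :=
        PreservesColimitsOfSize.preservesFiniteColimits _
      haveI : (EtCoh.pull (pullback.snd (j i) g)).Additive := Functor.additive_of_preserves_binary_products _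
      have h0 := @hξ i (hP i)
      rw [EtMVLib.Hpull_apply] at h0
      have h1 := congrArg (fun y => (Ext.mk₀ (EtCore.pullConst (pullback.snd (j i) g) ℤ).hom).comp y (zero_add (n + 1))) h0
      simp only [Ext.mk₀_comp_mk₀_assoc, Iso.hom_inv_id, Ext.mk₀_id_comp, Ext.comp_zero] at h1
      show ((Ext.mk₀ e.hom).comp ξ (zero_add (n + 1))).mapExactFunctor _ = 0
      rw [Ext.mapExactFunctor_comp, h1, Ext.comp_zero])
  haveI := hunit
  refine ⟨z.comp (Ext.mk₀ (inv ((EtCoh.pullPushAdj g).unit.app F))) (add_zero (n + 1)), ?_⟩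
  have hφ : (z.comp (Ext.mk₀ (inv ((EtCoh.pullPushAdj g).unit.app F))) (add_zero (n + 1))).mapExactFunctor (EtCoh.pull g) =
      x := by
    refine Eq.trans ?_ hz
    rw [Ext.mapExactFunctor_comp, Ext.mapExactFunctor_mk₀, EtFound.edge_apply]
    refine congrArg (fun t => (z.mapExactFunctor (EtCoh.pull g)).comp (Ext.mk₀ t) (add_zero (n + 1))) ?_
    rw [Functor.map_inv, IsIso.inv_eq_of_hom_inv_id]
    exact (EtCoh.pullPushAdj g).left_triangle_components F
  rw [EtMVLib.Hpull_apply, hφ]
  show (Ext.mk₀ e.inv).comp ((Ext.mk₀ e.hom).comp ξ (zero_add (n + 1))) (zero_add (n + 1)) = ξ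
  rw [Ext.mk₀_comp_mk₀_assoc, Iso.inv_hom_id, Ext.mk₀_id_comp]

end Groth.Agent.AcycGlobal
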